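import Mathlib
import Groth.Agent.Lib.Helper5.IntN.Gro1
import Groth.Agent.Lib.Helper5.IntN.Klei5
import Groth.Agent.Lib.Helper5.IntN.ARR
import Groth.Agent.Lib.Helper5.GV.Main
import Groth.Agent.Lib.Helper5.Glue.F
import Groth.Agent.Lib.Lead.RR.SurfKit2
import Groth.Agent.Lib.Lead.QC.TwistEquiv
import Groth.Agent.Lib.Lead.FBC.EulerBC

/-!
# Polynomial growth of the cohomology of `L_1^{a_1} ⊗ ⋯ ⊗ L_r^{a_r}` on a projective scheme
-/

set_option autoImplicit false
set_option linter.style.haveILetI false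
universe u
open CategoryTheory CategoryTheory.Limits AlgebraicGeometry TopologicalSpace Opposite

namespace Groth.Agent.H5.WG

open Groth.Agent.LD Groth.Agent.LD.QC Groth.Agent.H5.IntN

section words

variable {Y : Scheme.{u}}

/-- from `P' ≅ P ⊗ L` and `L ⊗ L' ≅ O` get `P ≅ L' ⊗ P'`. -/
lemma isoOfInverse {P P' L L' : Y.Modules} (e : P' ≅ CohB1.tensorMod P L)
    (eL : CohB1.tensorMod L L' ≅ unitMod Y) : Nonempty (P ≅ CohB1.tensorMod L' P') := by
  have e1 : CohB1.tensorMod P (Coh.structureModule Y) ≅ P := SecTwist.unitorR P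
  have e2₀ := (twFCongr eL).app P
  have e2 : CohB1.tensorMod P (CohB1.tensorMod L L') ≅ CohB1.tensorMod P (unitMod Y) := e2₀
  have e3₀ := (twFComp L L').app P
  have e3 : CohB1.tensorMod P (CohB1.tensorMod L L') ≅
      CohB1.tensorMod (CohB1.tensorMod P L) L' := e3₀
  have e4₀ := (twF L').mapIso e
  have e4 : CohB1.tensorMod P' L' ≅ CohB1.tensorMod (CohB1.tensorMod P L) L' := e4₀
  have e5 : CohB1.tensorMod P' L' ≅ CohB1.tensorMod L' P' := tensorCommAll P' L'
  have e2' : CohB1.tensorMod P (CohB1.tensorMod L L') ≅ CohB1.tensorMod P (Coh.structureModule Y) :=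
    e2
  exact ⟨e1.symm ≪≫ e2'.symm ≪≫ e3 ≪≫ e4.symm ≪≫ e5⟩

variable {r : ℕ} (Lb Lb' : Fin r → Y.Modules)
  (eL : ∀ j, Nonempty (CohB1.tensorMod (Lb j) (Lb' j) ≅ unitMod Y))
  (F : (Fin r → ℤ) → Y.Modules) (hF0 : Nonempty (F 0 ≅ unitMod Y))
  (hF : ∀ (a : Fin r → ℤ) (j : Fin r),
    Nonempty (F (a + Pi.single j 1) ≅ CohB1.tensorMod (F a) (Lb j)))

include eL hF0 hF in
theorem isWord_F : ∀ (n : ℕ) (a : Fin r → ℤ), ∑ j, (a j).natAbs = n →
    IsWord (List.ofFn Lb ++ List.ofFn Lb') n (F a) := by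
  intro n
  induction n with
  | zero =>
    intro a ha
    have h0 : a = 0 := by
      funext j
      have := (Finset.sum_eq_zero_iff.mp ha) j (Finset.mem_univ j)
      simpa using this
    subst h0
    exact isWord_zero.mpr hF0
  | succ n ih =>
    intro a ha
    -- some coordinate is nonzero
    have hex : ∃ j, a j ≠ 0 := by
      by_contra hcon
      push Not at hcon
      have : ∑ j, (a j).natAbs = 0 := Finset.sum_eq_zero fun j _ => by simp [hcon j]
      omega
    obtain ⟨j, hj⟩ := hex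
    rcases lt_or_gt_of_ne hj with hneg | hpos
    · -- `a j < 0`
      have hsum : ∑ i, ((a + Pi.single j 1 : Fin r → ℤ) i).natAbs = n := by
        have h1 : ∀ i, ((a + Pi.single j 1 : Fin r → ℤ) i).natAbs =
            if i = j then (a j).natAbs - 1 else (a i).natAbs := by
          intro i
          by_cases hij : i = j
          · subst hij
            simp only [Pi.add_apply, Pi.single_eq_same, if_true]
            omega
          · simp [hij]
        simp only [h1]
        have h2 : ∑ i, (a i).natAbs = (a j).natAbs + ∑ i ∈ Finset.univ.erase j, (a i).natAbs :=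
          (Finset.add_sum_erase _ _ (Finset.mem_univ j)).symm
        have h3 : ∑ i, (if i = j then (a j).natAbs - 1 else (a i).natAbs) =
            ((a j).natAbs - 1) + ∑ i ∈ Finset.univ.erase j, (a i).natAbs := by
          rw [← Finset.add_sum_erase _ _ (Finset.mem_univ j)]
          congr 1
          · simp
          · refine Finset.sum_congr rfl fun i hi => ?_
            simp [Finset.ne_of_mem_erase hi]
        have h4 : 0 < (a j).natAbs := Int.natAbs_pos.mpr hj
        omega
      have hw := ih _ hsum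
      obtain ⟨e⟩ := hF a j
      obtain ⟨eLj⟩ := eL j
      refine isWord_succ.mpr ⟨Lb' j, ?_, F (a + Pi.single j 1), hw, isoOfInverse e eLj⟩
      exact List.mem_append_right _ (List.mem_ofFn.mpr ⟨j, rfl⟩)
    · -- `0 < a j`
      have ha' : a = (a - Pi.single j 1) + Pi.single j 1 := by
        funext i
        simp
      have hsum : ∑ i, ((a - Pi.single j 1 : Fin r → ℤ) i).natAbs = n := by
        have h1 : ∀ i, ((a - Pi.single j 1 : Fin r → ℤ) i).natAbs =
            if i = j then (a j).natAbs - 1 else (a i).natAbs := by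
          intro i
          by_cases hij : i = j
          · subst hij
            simp only [Pi.sub_apply, Pi.single_eq_same, if_true]
            omega
          · simp [hij]
        simp only [h1]
        have h2 : ∑ i, (a i).natAbs = (a j).natAbs + ∑ i ∈ Finset.univ.erase j, (a i).natAbs :=
          (Finset.add_sum_erase _ _ (Finset.mem_univ j)).symm
        have h3 : ∑ i, (if i = j then (a j).natAbs - 1 else (a i).natAbs) =
            ((a j).natAbs - 1) + ∑ i ∈ Finset.univ.erase j, (a i).natAbs := by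
          rw [← Finset.add_sum_erase _ _ (Finset.mem_univ j)]
          congr 1
          · simp
          · refine Finset.sum_congr rfl fun i hi => ?_
            simp [Finset.ne_of_mem_erase hi]
        have h4 : 0 < (a j).natAbs := Int.natAbs_pos.mpr hj
        omega
      have hw := ih _ hsum
      obtain ⟨e⟩ := hF (a - Pi.single j 1) j
      rw [← ha'] at e
      refine isWord_succ.mpr ⟨Lb j, ?_, F (a - Pi.single j 1), hw, ⟨e ≪≫ tensorCommAll _ _⟩⟩
      exact List.mem_append_left _ (List.mem_ofFn.mpr ⟨j, rfl⟩)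

end words

section arith

lemma bnd_le (d s : ℕ) : ((bnd (d + 1) s : ℕ) : ℝ) ≤ 2 ^ d * (1 + (s : ℝ) ^ d) := by
  change (((1 + s) ^ d : ℕ) : ℝ) ≤ _
  push_cast
  rcases Nat.eq_zero_or_pos s with hs | hs
  · subst hs
    simp only [Nat.cast_zero, add_zero, one_pow]
    have h1 : (1 : ℝ) ≤ 2 ^ d := one_le_pow₀ (by norm_num)
    have h2 : (0 : ℝ) ≤ (0 : ℝ) ^ d := by positivity
    nlinarith
  · have hs1 : (1 : ℝ) ≤ s := by exact_mod_cast hs
    have h1 : (1 + (s : ℝ)) ^ d ≤ (2 * (s : ℝ)) ^ d :=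
      pow_le_pow_left₀ (by positivity) (by linarith) d
    rw [mul_pow] at h1
    have h2 : (0 : ℝ) ≤ 2 ^ d := by positivity
    nlinarith

end arith

variable (k : Type u) [Field k] (Y : Scheme.{u}) [Y.Over (Spec (CommRingCat.of k))]

/-- **S17502**. -/
theorem growth (N : ℕ) (c : Y ⟶ CohB1.ProjSpace N k) [IsClosedImmersion c]
    (hc : c ≫ CohB1.ProjSpace.toSpec N k = Y ↘ Spec (CommRingCat.of k))
    (d : ℕ) (hd : topologicalKrullDim ↥Y = d)
    (r : ℕ) (Lb : Fin r → Y.Modules) (hLb : ∀ j, PicF.IsInvertible (Lb j))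
    (F : (Fin r → ℤ) → Y.Modules) (hF0 : Nonempty (F 0 ≅ Coh.structureModule Y))
    (hF : ∀ (a : Fin r → ℤ) (j : Fin r),
      Nonempty (F (a + Pi.single j 1) ≅ CohB1.tensorMod (F a) (Lb j))) :
    ∃ C : ℝ, 0 < C ∧ ∀ (i : ℕ) (a : Fin r → ℤ),
      (Module.finrank k (Coh.HH Y (F a) i) : ℝ) ≤ C * (1 + (∑ j, |(a j : ℝ)|) ^ d) := by
  classical
  haveI : IsProper (Y ↘ Spec (CommRingCat.of k)) :=
    Groth.Agent.LD.RRS.Kit.isProper_of_proj k ⟨N, c, inferInstance, hc⟩
  haveI := Curve.isLocallyNoetherian k Y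
  haveI : CompactSpace Y := Curve.compactSpace k Y
  have hH : CohB1.IsAmple ((Scheme.Modules.pullback c).obj (Twist.twistProjSpace N k 1)) :=
    Groth.Agent.LD.RRS.Kit.isAmple_hyperplane k N c
  -- inverses
  choose Lb' hLb' eL using fun j => Groth.Agent.H5.Glue.exists_inverse (Lb j) (hLb j)
  set Ls : List Y.Modules := List.ofFn Lb ++ List.ofFn Lb' with hLs
  have hLsinv : ∀ L ∈ Ls, PicF.IsInvertible L := by
    intro L hL
    rcases List.mem_append.mp hL with h | h
    · obtain ⟨j, rfl⟩ := List.mem_ofFn.mp h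
      exact hLb j
    · obtain ⟨j, rfl⟩ := List.mem_ofFn.mp h
      exact hLb' j
  have hOc : Coh.IsCoh (unitMod Y) := Groth.Agent.LD.PF.isCoh_unitMod Y
  have hOdim : topologicalKrullDim (CohB1.support (unitMod Y)) < ((d + 1 : ℕ) : WithBot ℕ∞) := by
    have hsupp : CohB1.support (unitMod Y) = Set.univ := by
      ext y
      simp only [Set.mem_univ, iff_true]
      exact mem_support_unitMod' y
    rw [hsupp, IsHomeomorph.topologicalKrullDim_eq _ (Homeomorph.Set.univ Y).isHomeomorph, hd]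
    exact_mod_cast Nat.lt_succ_self d
  have hgr := fun i => word_growth k (d + 1) Y _ hH (unitMod Y) hOc hOdim Ls hLsinv i
  choose Ci hCi using hgr
  refine ⟨2 ^ d * ((∑ i ∈ Finset.range (d + 1), (Ci i : ℝ)) + 1), by positivity, ?_⟩
  intro i a
  set s : ℕ := ∑ j, (a j).natAbs with hs
  have hsR : (∑ j, |(a j : ℝ)|) = (s : ℝ) := by
    rw [hs]
    push_cast
    refine Finset.sum_congr rfl fun j _ => ?_
    rw [Nat.cast_natAbs, Int.cast_abs]
  rw [hsR]
  have hw : IsWord Ls s (F a) := isWord_F Lb Lb' eL F hF0 hF s a rfl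
  have hFinv : PicF.IsInvertible (F a) := IsWord.isInvertible hLsinv hw
  have hpos : (0 : ℝ) ≤ 1 + (s : ℝ) ^ d := by positivity
  by_cases hi : i ≤ d
  · have h1 := hCi i s (F a) hw
    rw [Groth.Agent.LD.FBC.finrank_HH_congr k (unitorL' (F a)) i] at h1
    have h2 : (Module.finrank k (Coh.HH Y (F a) i) : ℝ) ≤ (Ci i : ℝ) * (bnd (d + 1) s : ℝ) := by
      exact_mod_cast h1
    have h3 := bnd_le d s
    have h4 : (Ci i : ℝ) ≤ ∑ i ∈ Finset.range (d + 1), (Ci i : ℝ) :=
      Finset.single_le_sum (f := fun i => (Ci i : ℝ)) (fun _ _ => Nat.cast_nonneg _)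
        (Finset.mem_range.mpr (Nat.lt_succ_of_le hi))
    have h5 : (0 : ℝ) ≤ (Ci i : ℝ) := Nat.cast_nonneg _
    calc (Module.finrank k (Coh.HH Y (F a) i) : ℝ) ≤ (Ci i : ℝ) * (bnd (d + 1) s : ℝ) := h2
      _ ≤ (Ci i : ℝ) * (2 ^ d * (1 + (s : ℝ) ^ d)) := mul_le_mul_of_nonneg_left h3 h5
      _ ≤ ((∑ i ∈ Finset.range (d + 1), (Ci i : ℝ)) + 1) * (2 ^ d * (1 + (s : ℝ) ^ d)) := by
          apply mul_le_mul_of_nonneg_right _ (by positivity)
          linarith
      _ = 2 ^ d * ((∑ i ∈ Finset.range (d + 1), (Ci i : ℝ)) + 1) * (1 + (s : ℝ) ^ d) := by ring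
  · push Not at hi
    haveI := Groth.Agent.H5.GV.subsingleton_HH_of_isCoh d (le_of_eq hd) (F a)
      (Groth.Agent.H5.Curve2.isCoh_of_isInvertible hFinv) i hi
    rw [Module.finrank_zero_of_subsingleton]
    have : (0 : ℝ) ≤ ∑ i ∈ Finset.range (d + 1), (Ci i : ℝ) :=
      Finset.sum_nonneg fun _ _ => Nat.cast_nonneg _
    simp only [Nat.cast_zero]
    positivity

end Groth.Agent.H5.WG
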